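import Mathlib

/-! # Codes for `SL(3, 3)`: nine base-three digits -/

namespace CfsgLib.LinThree

/-- a base-three digit -/
def dig (a k : ℕ) : ℕ := a / 3 ^ k % 3

/-- the code of a matrix -/
def encM (M : Matrix (Fin 3) (Fin 3) (ZMod 3)) : ℕ :=
  (M 0 0).val + (M 0 1).val * 3 + (M 0 2).val * 9 + (M 1 0).val * 27 + (M 1 1).val * 81 +
    (M 1 2).val * 243 + (M 2 0).val * 729 + (M 2 1).val * 2187 + (M 2 2).val * 6561

/-- the matrix of a code -/
def decM (a : ℕ) : Matrix (Fin 3) (Fin 3) (ZMod 3) := fun i j => (dig a (3 * i + j) : ZMod 3)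

/-- one entry of a product of codes -/
def entryC (a b i j : ℕ) : ℕ :=
  (dig a (3 * i) * dig b j + dig a (3 * i + 1) * dig b (3 + j) +
    dig a (3 * i + 2) * dig b (6 + j)) % 3

/-- product of codes -/
def mulC (a b : ℕ) : ℕ :=
  entryC a b 0 0 + entryC a b 0 1 * 3 + entryC a b 0 2 * 9 + entryC a b 1 0 * 27 +
    entryC a b 1 1 * 81 + entryC a b 1 2 * 243 + entryC a b 2 0 * 729 + entryC a b 2 1 * 2187 +
    entryC a b 2 2 * 6561

/-- determinant of a code -/
def detC (a : ℕ) : ℕ :=
  (dig a 0 * dig a 4 * dig a 8 + dig a 1 * dig a 5 * dig a 6 + dig a 2 * dig a 3 * dig a 7 +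
    2 * (dig a 2 * dig a 4 * dig a 6 + dig a 0 * dig a 5 * dig a 7 + dig a 1 * dig a 3 * dig a 8)) % 3

theorem encM_lt (M : Matrix (Fin 3) (Fin 3) (ZMod 3)) : encM M < 19683 := by
  have h := fun i j => (M i j).val_lt
  unfold encM
  have := h 0 0; have := h 0 1; have := h 0 2; have := h 1 0; have := h 1 1
  have := h 1 2; have := h 2 0; have := h 2 1; have := h 2 2
  omega

theorem dig_encM (M : Matrix (Fin 3) (Fin 3) (ZMod 3)) (i j : Fin 3) :
    dig (encM M) (3 * i + j) = (M i j).val := by
  have h := fun i j => (M i j).val_lt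
  have := h 0 0; have := h 0 1; have := h 0 2; have := h 1 0; have := h 1 1
  have := h 1 2; have := h 2 0; have := h 2 1; have := h 2 2
  fin_cases i <;> fin_cases j <;> simp [dig, encM] <;> omega

theorem decM_encM (M : Matrix (Fin 3) (Fin 3) (ZMod 3)) : decM (encM M) = M := by
  ext i j
  simp only [decM, dig_encM, ZMod.natCast_val, ZMod.cast_id']
  rfl

theorem encM_injective : Function.Injective encM := fun a b h => by
  rw [← decM_encM a, ← decM_encM b, h]

theorem encM_decM {a : ℕ} (ha : a < 19683) : encM (decM a) = a := by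
  have hd : ∀ k, (dig a k : ZMod 3).val = dig a k := fun k => by
    rw [ZMod.val_natCast, Nat.mod_eq_of_lt (show dig a k < 3 from Nat.mod_lt _ (by norm_num))]
  simp only [encM, decM, hd]
  simp [dig]
  omega

theorem encM_mul (M N : Matrix (Fin 3) (Fin 3) (ZMod 3)) :
    encM (M * N) = mulC (encM M) (encM N) := by
  have h : ∀ i j : Fin 3, ((M * N) i j).val = entryC (encM M) (encM N) i j := by
    intro i j
    have e0 := dig_encM M i 0; have e1 := dig_encM M i 1; have e2 := dig_encM M i 2
    have f0 := dig_encM N 0 j; have f1 := dig_encM N 1 j; have f2 := dig_encM N 2 j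
    simp only [Fin.val_zero, Fin.val_one, Fin.val_two, mul_zero, mul_one, zero_add, add_zero,
      show 3 * 2 = 6 from rfl] at e0 e1 e2 f0 f1 f2
    rw [entryC, e0, e1, e2, f0, f1, f2, Matrix.mul_apply, Fin.sum_univ_three]
    simp [ZMod.val_add, ZMod.val_mul]
  rw [encM, h, h, h, h, h, h, h, h, h]
  rfl

theorem det_encM (M : Matrix (Fin 3) (Fin 3) (ZMod 3)) : (detC (encM M) : ZMod 3) = M.det := by
  have h : ∀ i j : Fin 3, (dig (encM M) (3 * i + j) : ZMod 3) = M i j := fun i j => by
    rw [dig_encM, ZMod.natCast_val, ZMod.cast_id', id]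
  have := h 0 0; have := h 0 1; have := h 0 2; have := h 1 0; have := h 1 1
  have := h 1 2; have := h 2 0; have := h 2 1; have := h 2 2
  simp only [Fin.val_zero, Fin.val_one, Fin.val_two, mul_zero, mul_one, zero_add, add_zero,
    Nat.reduceMul, Nat.reduceAdd] at *
  rw [detC, ZMod.natCast_mod, Matrix.det_fin_three]
  push_cast
  simp only [*]
  linear_combination (norm := ring_nf) (0 : ZMod 3)
  all_goals (simp only [show (3 : ZMod 3) = 0 by decide, mul_zero, sub_zero, zero_sub, neg_zero,
    add_zero, zero_add, sub_self])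

/-- `SL(3, 3)` -/
abbrev SL33 : Type := Matrix.SpecialLinearGroup (Fin 3) (ZMod 3)

/-- the code of an element of `SL(3, 3)` -/
def enc (g : SL33) : ℕ := encM g.1

theorem enc_injective : Function.Injective enc := fun _ _ h => Subtype.ext (encM_injective h)

theorem enc_mul (a b : SL33) : enc (a * b) = mulC (enc a) (enc b) := encM_mul a.1 b.1

/-- all codes -/
def els : List ℕ := (List.range 19683).filter fun a => detC a == 1

theorem els_nodup : els.Nodup := List.nodup_range.filter _

theorem det_decM {a : ℕ} (ha : a ∈ els) : (decM a).det = 1 := by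
  simp only [els, List.mem_filter, List.mem_range, beq_iff_eq] at ha
  rw [← det_encM, encM_decM ha.1, ha.2, Nat.cast_one]

/-- the element of a code -/
def decode (a : ℕ) (ha : a ∈ els) : SL33 := ⟨decM a, det_decM ha⟩

theorem enc_decode {a : ℕ} (ha : a ∈ els) : enc (decode a ha) = a := by
  have := List.mem_filter.mp ha
  exact encM_decM (List.mem_range.mp this.1)

theorem mem_els (a : ℕ) : a ∈ els ↔ a ∈ Set.range enc := by
  refine ⟨fun ha => ⟨decode a ha, enc_decode ha⟩, ?_⟩
  rintro ⟨g, rfl⟩
  simp only [els, List.mem_filter, List.mem_range, beq_iff_eq]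
  refine ⟨encM_lt _, ?_⟩
  have h := congrArg ZMod.val (det_encM g.1)
  rw [g.2, ZMod.val_natCast] at h
  show detC (encM g.1) = 1
  rw [show (1 : ℕ) = (1 : ZMod 3).val from rfl, ← h, Nat.mod_eq_of_lt (show detC (encM g.1) < 3 from Nat.mod_lt _ (by norm_num))]

/-- whether two codes commute, entry by entry -/
def commC (a b : ℕ) : Bool :=
  entryC a b 0 0 == entryC b a 0 0 && entryC a b 0 1 == entryC b a 0 1 &&
    entryC a b 0 2 == entryC b a 0 2 && entryC a b 1 0 == entryC b a 1 0 &&
    entryC a b 1 1 == entryC b a 1 1 && entryC a b 1 2 == entryC b a 1 2 &&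
    entryC a b 2 0 == entryC b a 2 0 && entryC a b 2 1 == entryC b a 2 1 &&
    entryC a b 2 2 == entryC b a 2 2

theorem commC_iff (a b : ℕ) : commC a b = true ↔ mulC a b = mulC b a := by
  have h : ∀ x y i j, entryC x y i j < 3 := fun x y i j => Nat.mod_lt _ (by norm_num)
  have := h a b 0 0; have := h a b 0 1; have := h a b 0 2; have := h a b 1 0; have := h a b 1 1
  have := h a b 1 2; have := h a b 2 0; have := h a b 2 1; have := h a b 2 2
  have := h b a 0 0; have := h b a 0 1; have := h b a 0 2; have := h b a 1 0; have := h b a 1 1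
  have := h b a 1 2; have := h b a 2 0; have := h b a 2 1; have := h b a 2 2
  simp only [commC, Bool.and_eq_true, beq_iff_eq, mulC]
  omega

theorem commC_enc (a b : SL33) : commC (enc a) (enc b) = true ↔ Commute a b := by
  rw [commC_iff, ← enc_mul, ← enc_mul, enc_injective.eq_iff]; rfl

end CfsgLib.LinThree
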