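import Cfsg.Agent.LinThree.GraphChecks
import Cfsg.Agent.Linear.Perfect

/-! # `SL(3, 3)` is determined by its commuting graph -/

namespace CfsgLib.LinThree

open CfsgLib.CommutingGraph

theorem iso_of_commutingGraph {H : Type*} [Group H] [Finite H]
    (f : {h : H // h ≠ 1} ≃ {g : SL33 // g ≠ 1})
    (hf : ∀ x y : {h : H // h ≠ 1}, (x : H) * y = y * x ↔ ((f x) : SL33) * (f y) = (f y) * (f x)) :
    Nonempty (H ≃* SL33) := by
  have hone : enc (1 : SL33) = 6643 := by decide +kernel
  obtain ⟨hlen, hnd, hall⟩ := invList_facts
  have hel : ∀ i : Fin 117, invList.getD i 0 ∈ els := fun i => by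
    have hi : (i : ℕ) < invList.length := by rw [hlen]; exact i.2
    rw [List.getD_eq_getElem _ _ hi, els, List.mem_filter, List.mem_range, beq_iff_eq]
    exact ⟨(hall _ (List.getElem_mem hi)).2.1, (hall _ (List.getElem_mem hi)).1⟩
  let t : Fin 117 → SL33 := fun i => decode _ (hel i)
  have ht : Function.Injective t := fun i j h => by
    have hi : (i : ℕ) < invList.length := by rw [hlen]; exact i.2
    have hj : (j : ℕ) < invList.length := by rw [hlen]; exact j.2
    have := congrArg enc h
    rw [enc_decode, enc_decode, List.getD_eq_getElem _ _ hi, List.getD_eq_getElem _ _ hj,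
      hnd.getElem_inj_iff] at this
    exact Fin.ext this
  have hmem : ∀ g : SL33, g ∈ Set.range t ↔ marked (enc g) = true := fun g => by
    constructor
    · rintro ⟨i, rfl⟩
      have hi : (i : ℕ) < invList.length := by rw [hlen]; exact i.2
      rw [enc_decode, List.getD_eq_getElem _ _ hi]
      exact (hall _ (List.getElem_mem hi)).2.2.2
    · intro hm
      obtain ⟨k, hk, hk'⟩ := List.getElem_of_mem (marked_mem _ (encM_lt _) hm)
      refine ⟨⟨k, hlen ▸ hk⟩, enc_injective ?_⟩
      rw [enc_decode, List.getD_eq_getElem _ _ hk, hk']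
      rfl
  have ht1 : ∀ i, t i ≠ 1 := fun i h => by
    have hi : (i : ℕ) < invList.length := by rw [hlen]; exact i.2
    have := congrArg enc h
    rw [enc_decode, hone, List.getD_eq_getElem _ _ hi] at this
    exact (hall _ (List.getElem_mem hi)).2.2.1 this
  have htd : ∀ g : SL33, g ≠ 1 →
      (Nat.card (Subgroup.centralizer {g}) = 48 ↔ g ∈ Set.range t) := fun g hg => by
    rw [hmem]
    refine classify enc mulC commC enc_injective enc_mul commC_enc els_nodup mem_els ?_ (hone.symm ▸ classify_ok) g hg
    intro s hs
    have key : ∀ a b : ℕ, a ∈ els → b ∈ els → mulC a b = 6643 →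
        ∃ x : SL33, enc x = a ∧ enc x⁻¹ = b := fun a b ha hb hab => by
      refine ⟨decode a ha, enc_decode ha, ?_⟩
      have : decode a ha * decode b hb = 1 := enc_injective (by
        rw [enc_mul, enc_decode, enc_decode, hab, hone])
      rw [inv_eq_of_mul_eq_one_right this, enc_decode]
    fin_cases hs
    · exact key _ _ (by decide +kernel) (by decide +kernel) (by decide +kernel)
    · exact key _ _ (by decide +kernel) (by decide +kernel) (by decide +kernel)
  have htriv : ∀ g : SL33, (∀ i, Commute g (t i)) → g = 1 := fun g hg => by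
    have h := List.all_eq_true.mp no_common (enc g) ((mem_els _).mpr ⟨g, rfl⟩)
    simp only [Bool.or_eq_true, beq_iff_eq, List.any_eq_true, Bool.not_eq_true'] at h
    rcases h with h | ⟨b, hb, hne⟩
    · exact enc_injective (h.trans hone.symm)
    · obtain ⟨k, hk, rfl⟩ := List.getElem_of_mem hb
      exfalso
      have := (commC_enc g _).mpr (hg ⟨k, by rw [← hlen]; exact hk⟩)
      rw [enc_decode, List.getD_eq_getElem _ _ hk] at this
      rw [this] at hne; exact Bool.noConfusion hne
  have hrow : ∀ i j : Fin 117, (row i).testBit j = true ↔ Commute (t i) (t j) := fun i j => by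
    have h := row_ok
    simp only [List.all_eq_true, List.mem_range, beq_iff_eq] at h
    rw [h i i.2 j j.2, ← commC_enc, enc_decode, enc_decode]
  have hcard : Nat.card (autGraph t) ≤ 2 * Nat.card SL33 := by
    have := card_autGraph_le t row nbr 13 hrow nbr_ok steps steps_ok
    rw [steps_prod] at this
    rw [card_eq_length enc enc_injective els_nodup mem_els, els_length]
    exact this
  exact CfsgLib.CommutingGraph.iso_of_commutingGraph t ht ht1 htd htriv hcard
    (closure_squares_eq_top (CfsgLib.Linear.commutator_SL_eq_top (by simp))) f hf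

end CfsgLib.LinThree
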