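import Cfsg.Agent.CommutingGraph.Table
import Cfsg.Agent.LinThree.Codes
import Cfsg.Agent.LinThree.GraphData

/-! # Checks of the tables for `SL(3, 3)` -/

namespace CfsgLib.LinThree

open CfsgLib.CommutingGraph

/-- distance of a class member to the representative -/
def distC (a : ℕ) : ℕ := slot distData 5 a

/-- involution bit -/
def marked (a : ℕ) : Bool := invMask.testBit a

/-- commuting row -/
def row (i : ℕ) : ℕ := slot rowData 117 i

/-- neighbour -/
def nbr (u m : ℕ) : ℕ := slot nbrData 8 (13 * u + m)

/-- the codes of determinant one, unpacked -/
def elsPacked : List ℕ := (List.range 5616).map (slot elsData 15)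

set_option maxRecDepth 100000 in
theorem els_eq : els = elsPacked := by decide +kernel

set_option maxRecDepth 100000 in
theorem classify_packed :
    classifyOK mulC commC elsPacked [(6646, 6649), (2223, 975)] repList distC marked 48 6643 = true := by
  decide +kernel

theorem classify_ok :
    classifyOK mulC commC els [(6646, 6649), (2223, 975)] repList distC marked 48 6643 = true := by
  rw [els_eq]; exact classify_packed

set_option maxRecDepth 100000 in
theorem invList_facts : invList.length = 117 ∧ invList.Nodup ∧
    (∀ a ∈ invList, detC a = 1 ∧ a < 19683 ∧ a ≠ 6643 ∧ marked a = true) := by
  decide +kernel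

set_option maxRecDepth 100000 in
theorem marked_mem : ∀ a < 19683, marked a = true → a ∈ invList := by
  have h : (List.range 19683).all (fun a => !marked a || invList.contains a) = true := by
    decide +kernel
  intro a ha hm
  simp only [List.all_eq_true, List.mem_range] at h
  simpa [hm, List.contains_iff_mem] using h a ha

set_option maxRecDepth 100000 in
theorem steps_ok : checkSteps 117 (pairColour row nbr 13) steps [] = true := by
  decide +kernel

set_option maxRecDepth 100000 in
theorem steps_prod : (steps.map fun s => s.2.1).prod = 11232 := by decide +kernel

theorem els_length : els.length = 5616 := by rw [els_eq, elsPacked, List.length_map, List.length_range]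

set_option maxRecDepth 100000 in
theorem row_ok : (List.range 117).all (fun i => (List.range 117).all fun j =>
    (row i).testBit j == commC (invList.getD i 0) (invList.getD j 0)) = true := by
  decide +kernel

set_option maxRecDepth 100000 in
theorem nbr_ok : ∀ u < 117,
    (List.range 13).map (nbr u) = (List.range 117).filter fun k => (row u).testBit k := by
  decide +kernel

set_option maxRecDepth 100000 in
theorem no_common_packed : elsPacked.all (fun a => a == 6643 ||
    invList.any fun b => !(commC a b)) = true := by
  decide +kernel

theorem no_common : els.all (fun a => a == 6643 ||
    invList.any fun b => !(commC a b)) = true := by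
  rw [els_eq]; exact no_common_packed

end CfsgLib.LinThree
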