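import Cfsg.Agent.LinThree.Codes
import Cfsg.Agent.Linear.Basic

/-! # `PSL(3, 3) = SL(3, 3)` -/

namespace CfsgLib.LinThree

theorem center_SL33 : Subgroup.center SL33 = ⊥ := by
  apply Subgroup.eq_bot_of_card_eq
  rw [CfsgLib.Linear.card_center_SL]
  simp [ZMod.card]

/-- the projection `SL(3, 3) → PSL(3, 3)` is bijective -/
noncomputable def pslEquiv : SL33 ≃* Matrix.ProjectiveSpecialLinearGroup (Fin 3) (ZMod 3) :=
  MulEquiv.ofBijective (QuotientGroup.mk' (Subgroup.center SL33))
    ⟨(MonoidHom.ker_eq_bot_iff _).mp (by rw [QuotientGroup.ker_mk', center_SL33]),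
      QuotientGroup.mk'_surjective _⟩

end CfsgLib.LinThree
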