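import Cfsg.Agent.LinThree.Codes
import Cfsg.Agent.LinThree.Psl
import Cfsg.Agent.CommutingGraph.ClassInduction
import Cfsg.Agent.LinThree.GraphChecks

/-! # Element orders of `SL(3, 3)` -/

namespace CfsgLib.LinThree

/-- powers of a code -/
def powC (a : ℕ) : ℕ → ℕ
  | 0 => 6643
  | k + 1 => mulC (powC a k) a

theorem enc_one : enc (1 : SL33) = 6643 := by decide +kernel

theorem enc_pow (g : SL33) : ∀ k, enc (g ^ k) = powC (enc g) k
  | 0 => by rw [pow_zero]; exact enc_one
  | k + 1 => by rw [pow_succ, enc_mul, enc_pow g k, powC]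

/-- `a` has order exactly `k` -/
def hasOrder (a k : ℕ) : Bool :=
  decide (0 < k) && powC a k == 6643 &&
    (List.range k).all fun j => j == 0 || !(powC a j == 6643)

theorem orderOf_eq_of_hasOrder {g : SL33} {k : ℕ} (h : hasOrder (enc g) k = true) :
    orderOf g = k := by
  simp only [hasOrder, Bool.and_eq_true, decide_eq_true_eq, beq_iff_eq, List.all_eq_true,
    List.mem_range, Bool.or_eq_true, Bool.not_eq_true', beq_eq_false_iff_ne] at h
  obtain ⟨⟨hk0, hk1⟩, hj⟩ := h
  refine (orderOf_eq_iff hk0).2 ⟨enc_injective (by rw [enc_pow, hk1, enc_one]), fun j hjk hj0 he => ?_⟩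
  have := congrArg enc he
  rw [enc_pow, enc_one] at this
  exact ((hj j hjk).resolve_left (Nat.pos_iff_ne_zero.1 hj0)) this

set_option maxRecDepth 100000 in
theorem gens_els : [6646, 6649, 2223, 975].all (fun a => els.contains a) = true ∧
    mulC 6646 6649 = 6643 ∧ mulC 2223 975 = 6643 := by decide +kernel

theorem conjGens_mem : ∀ s ∈ [(6646, 6649), (2223, 975)],
    ∃ x : SL33, enc x = s.1 ∧ enc x⁻¹ = s.2 := by
  intro s hs
  obtain ⟨hm, h1, h2⟩ := gens_els
  simp only [List.all_eq_true, List.contains_iff_mem] at hm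
  have key : ∀ a b : ℕ, a ∈ els → b ∈ els → mulC a b = 6643 →
      ∃ x : SL33, enc x = a ∧ enc x⁻¹ = b := fun a b ha hb hab => by
    refine ⟨decode a ha, enc_decode ha, ?_⟩
    have : decode a ha * decode b hb = 1 := enc_injective (by
      rw [enc_mul, enc_decode, enc_decode, hab, enc_one])
    rw [inv_eq_of_mul_eq_one_right this, enc_decode]
  fin_cases hs
  · exact key _ _ (hm _ (by simp)) (hm _ (by simp)) h1
  · exact key _ _ (hm _ (by simp)) (hm _ (by simp)) h2

set_option maxRecDepth 100000 in
theorem rep_orders : repList.all (fun a =>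
    [1, 2, 3, 4, 6, 8, 13].any fun k => hasOrder a k) = true := by
  decide +kernel

theorem orderOf_mem (g : SL33) : orderOf g ∈ [1, 2, 3, 4, 6, 8, 13] := by
  refine CfsgLib.CommutingGraph.class_induction (enc := enc) (mulC := mulC) (commC := commC)
    enc_injective enc_mul mem_els conjGens_mem (enc_one.symm ▸ classify_ok)
    (fun g => orderOf g ∈ [1, 2, 3, 4, 6, 8, 13]) ?_ (by simp) ?_ g
  · intro x g h
    rwa [show x * g * x⁻¹ = MulAut.conj x g from rfl, MulEquiv.orderOf_eq] at h
  · intro g hg
    obtain ⟨k, hk, h⟩ := List.any_eq_true.1 (List.all_eq_true.1 rep_orders _ hg)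
    rw [orderOf_eq_of_hasOrder h]; exact hk

set_option maxRecDepth 100000 in
theorem witness_orders : [1, 2, 3, 4, 6, 8, 13].all (fun k =>
    (6643 :: repList).any fun a => els.contains a && hasOrder a k) = true := by
  decide +kernel

theorem range_orderOf : Set.range (orderOf : SL33 → ℕ) = {k | k ∈ [1, 2, 3, 4, 6, 8, 13]} := by
  apply Set.eq_of_subset_of_subset
  · rintro _ ⟨g, rfl⟩; exact orderOf_mem g
  · intro k hk
    obtain ⟨a, -, h⟩ := List.any_eq_true.1 (List.all_eq_true.1 witness_orders k hk)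
    simp only [Bool.and_eq_true, List.contains_iff_mem] at h
    exact ⟨decode a h.1, orderOf_eq_of_hasOrder (by rw [enc_decode]; exact h.2)⟩

end CfsgLib.LinThree
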